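import Groth.Agent.GmNormLib.GlobalNorm
import Mathlib.AlgebraicGeometry.Morphisms.FlatRank

/-! # The norm of a function from the base along a map of constant rank -/

set_option autoImplicit false
set_option backward.isDefEq.respectTransparency false
set_option backward.isDefEq.respectTransparency.types false
set_option linter.style.haveILetI false

universe u

open CategoryTheory CategoryTheory.Limits AlgebraicGeometry

noncomputable section

namespace Groth.Agent.EtNormLib

open NormAmpleLib GmNormLib

variable {T Y : Scheme.{u}} (g : Y ⟶ T)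

/-- The rank of a basis over a neighbourhood is the rank of the morphism. -/
theorem rank_eq [IsFinite g] [Flat g] {D : T.Opens} (hD : IsAffineOpen D) {d : ℕ} (hn : Nice g D d)
    {x : T} (hx : x ∈ D) : g.finrank x = d := by
  haveI : Nontrivial Γ(T, D) := by
    haveI : Nonempty D := ⟨⟨x, hx⟩⟩
    exact Scheme.component_nontrivial T D
  obtain ⟨p, hp⟩ : ∃ p, hD.fromSpec p = x := by
    rwa [← Set.mem_range, hD.range_fromSpec]
  have hD' := hD.preimage g
  have e : Spec.map (g.app D) ≫ hD.fromSpec = hD'.fromSpec ≫ g := by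
    rw [Scheme.Hom.app_eq_appLE]
    exact hD.SpecMap_appLE_fromSpec g hD' le_rfl
  have sq : IsPullback (hD'.fromSpec) (Spec.map (g.app D)) g hD.fromSpec := by
    refine (IsOpenImmersion.isPullback (Spec.map (g.app D)) hD'.fromSpec hD.fromSpec g e.symm ?_).flip
    rw [hD.opensRange_fromSpec, hD'.opensRange_fromSpec]
  rw [← hp, ← Scheme.Hom.finrank_of_isPullback _ _ _ _ sq p]
  letI := alg g D
  obtain ⟨b⟩ := hn
  haveI := Module.Free.of_basis b
  haveI := Module.Finite.of_basis b
  show (Spec.map (CommRingCat.ofHom (algebraMap Γ(T, D) Γ(Y, g ⁻¹ᵁ D)))).finrank p = d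
  rw [Scheme.Hom.finrank_SpecMap_algebraMap, Module.rankAtStalk_eq_finrank_of_free]
  exact (Module.finrank_eq_card_basis b).trans (Fintype.card_fin d)

/-- The norm of a function from the base is its power by the rank. -/
theorem gnorm_appTop [IsFinite g] [Flat g] (hg : LocFree g) {d : ℕ} (hd : ∀ x, g.finrank x = d)
    (a : Γ(T, ⊤)) : gnorm hg (g.appTop a) = a ^ d := by
  refine (existsUnique_isGNorm hg (g.appTop a)).unique (gnorm_spec hg _) fun D n hD hn => ?_
  have e : Y.presheaf.map (homOfLE (le_top : g ⁻¹ᵁ D ≤ ⊤)).op (g.appTop a) =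
      g.app D (T.presheaf.map (homOfLE (le_top : D ≤ ⊤)).op a) :=
    (ConcreteCategory.congr_hom (g.naturality (homOfLE (le_top : D ≤ ⊤)).op) a).symm
  rw [e, nrm_app hn, map_pow]
  by_cases h : (D : Set T).Nonempty
  · obtain ⟨x, hx⟩ := h
    rw [← rank_eq g hD hn hx, hd]
  · refine TopCat.Presheaf.section_ext T.sheaf _ _ _ fun z hz => (h ⟨z, hz⟩).elim

end Groth.Agent.EtNormLib
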